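import Cfsg.Agent.H843.IMC.Co2A
import Cfsg.Agent.H690.Spor.Ru
import Cfsg.Agent.H845.FD.Perm
import Cfsg.Agent.H705.Imc.Perm

/-!
# S4247: no subgroups of index `203` in `Ru`, of index `253` in `Co2` (helper294)

`dvd_of` : if the permutation character of `X` is `1 + χ₁ + χ₂` and `|Y| ≤ χᵢ(1)`, `Y` transitive, then `G` is transitive on `X × Y`,
so `|X| |Y|` divides `|G|`. `Ru` on `4060` points (`783`, `3276`), `Co2` on `2300` points (`275`, `2024`).
-/

set_option autoImplicit false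

namespace Cfsg.Agent.H294.Ix

open Cfsg MulAction Cfsg.Agent.Characters.Core
open Cfsg.Agent.H713.Spor.RankThree (pc inner_pc_one)

universe u v w

theorem dvd_of {G : Type u} [Group G] [Finite G] {X : Type v} {Y : Type w} [MulAction G X] [Finite X] [Nonempty X]
    [MulAction G Y] [Finite Y] [IsPretransitive G Y] (y : Y) (χ₁ χ₂ : IrrCharacter G)
    (hv : ∀ x : G, (Nat.card (fixedBy X x) : ℂ) = 1 + (χ₁ : G → ℂ) x + (χ₂ : G → ℂ) x) (hY : 1 < Nat.card Y)
    (h1 : Nat.card Y ≤ charDegree (χ₁ : G → ℂ)) (h2 : Nat.card Y ≤ charDegree (χ₂ : G → ℂ)) :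
    Nat.card X * Nat.card Y ∣ Nat.card G := by
  classical
  have := Fintype.ofFinite G
  have := Fintype.ofFinite Y
  have : Nonempty Y := ⟨y⟩
  have key : ∀ χ : IrrCharacter G, Nat.card Y ≤ charDegree (χ : G → ℂ) → classInner (χ : G → ℂ) (pc G Y) = 0 := by
    intro χ hχ
    rw [← classInner_conj_symm]
    by_contra h0
    have h3 : classInner (pc G Y) (χ : G → ℂ) ≠ 0 := fun h => h0 (by rw [h, map_zero])
    have h4 := Cfsg.Agent.H845.FD.Perm.charDegree_lt y χ.2 (by
      intro h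
      rw [h, Cfsg.Agent.H845.FD.Perm.charDegree_one'] at hχ
      omega) h3
    omega
  have hpc : pc G X = 1 + (χ₁ : G → ℂ) + (χ₂ : G → ℂ) := by
    funext x
    rw [pc, hv]
    rfl
  have h3 := Cfsg.Agent.H705.Imc.inner_pc_prod (G := G) X Y
  have h4 : classInner (1 : G → ℂ) (pc G Y) = 1 := by
    rw [← classInner_conj_symm, inner_pc_one, map_one]
  rw [hpc, classInner_add_left, classInner_add_left, key χ₁ h1, key χ₂ h2, h4, add_zero, add_zero] at h3
  have h5 : Nat.card (Quotient (orbitRel G (X × Y))) = 1 := by exact_mod_cast h3.symm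
  obtain ⟨h6, -⟩ := Nat.card_eq_one_iff_unique.1 h5
  obtain ⟨x⟩ := ‹Nonempty X›
  have h7 : orbit G (x, y) = Set.univ := by
    rw [Set.eq_univ_iff_forall]
    intro z
    have h8 : (Quotient.mk (orbitRel G (X × Y)) z) = Quotient.mk (orbitRel G (X × Y)) (x, y) := Subsingleton.elim _ _
    exact (orbitRel_apply (G := G)).1 (Quotient.exact h8)
  have h8 := index_stabilizer G (x, y)
  rw [h7, Set.ncard_univ, Nat.card_prod] at h8
  rw [← h8]
  exact Subgroup.index_dvd_card _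

/-- index version -/
theorem dvd_index {G : Type u} [Group G] [Finite G] {X : Type v} [MulAction G X] [Finite X] [Nonempty X]
    (χ₁ χ₂ : IrrCharacter G) (hv : ∀ x : G, (Nat.card (fixedBy X x) : ℂ) = 1 + (χ₁ : G → ℂ) x + (χ₂ : G → ℂ) x)
    (A : Subgroup G) (hA : 1 < A.index) (h1 : A.index ≤ charDegree (χ₁ : G → ℂ))
    (h2 : A.index ≤ charDegree (χ₂ : G → ℂ)) : Nat.card X * A.index ∣ Nat.card G :=
  dvd_of (Y := G ⧸ A) ((1 : G) : G ⧸ A) χ₁ χ₂ hv hA h1 h2

/-- transport -/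
theorem index_map {G : Type u} {G' : Type v} [Group G] [Group G'] (e : G ≃* G') (A : Subgroup G) :
    (A.map e.toMonoidHom).index = A.index :=
  Subgroup.index_map_equiv A e

/-! ### `Ru` -/

theorem ru_degs {G X : Type*} [Group G] [MulAction G X] [Finite G] [Finite X] {R : X → X → Prop}
    (hR : Cfsg.Agent.H690.Spor.RankThree.R3 G X R 1755 2304) :
    ∃ χ₁ χ₂ : IrrCharacter G, 204 ≤ charDegree (χ₁ : G → ℂ) ∧ 204 ≤ charDegree (χ₂ : G → ℂ) ∧
      ∀ x : G, (Nat.card (fixedBy X x) : ℂ) = 1 + (χ₁ : G → ℂ) x + (χ₂ : G → ℂ) x := by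
  classical
  have := Fintype.ofFinite X
  obtain ⟨χ₁, χ₂, f, g, D, hf, hg, hval, h3, h4, h5⟩ := hR.frame
  have hd1 : charDegree (χ₁ : G → ℂ) = f := Cfsg.Agent.H670.PSing.charDegree_eq_of hf
  have hd2 : charDegree (χ₂ : G → ℂ) = g := Cfsg.Agent.H670.PSing.charDegree_eq_of hg
  have hne : f ≠ g := by omega
  have hsq := h5 hne
  have key : ∀ f < 204, ∀ D : ℕ, IsSquare D → f * (4059 - f) * D ≠ 16416691200 := by
    intro f hf D hD hc
    have hdec : (List.range 204).all (fun f => !(16416691200 % (f * (4059 - f)) == 0 &&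
        (Nat.sqrt (16416691200 / (f * (4059 - f))) * Nat.sqrt (16416691200 / (f * (4059 - f))) ==
          16416691200 / (f * (4059 - f))))) = true := by decide +kernel
    have h6 := List.all_eq_true.1 hdec f (List.mem_range.2 hf)
    have hpos : 0 < f * (4059 - f) := by
      apply Nat.pos_of_ne_zero
      intro h0
      rw [h0, zero_mul] at hc
      exact absurd hc (by norm_num)
    have h7 : 16416691200 % (f * (4059 - f)) = 0 := by rw [← hc]; exact Nat.mul_mod_right _ _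
    have h8 : 16416691200 / (f * (4059 - f)) = D := by rw [← hc]; exact Nat.mul_div_cancel_left _ hpos
    obtain ⟨d, rfl⟩ := hD
    rw [h7, h8, Nat.sqrt_eq] at h6
    simp at h6
  refine ⟨χ₁, χ₂, ?_, ?_, hval⟩
  · rw [hd1]
    by_contra hcon
    refine key f (by omega) D hsq ?_
    have e : g = 4059 - f := by omega
    rw [← e, h4]
  · rw [hd2]
    by_contra hcon
    refine key g (by omega) D hsq ?_
    have e : f = 4059 - g := by omega
    rw [← e, mul_comm g f, h4]

/-- **`Ru` has no subgroup of index `203`.** -/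
theorem no_index_ru {S : Type u} [Group S] [Finite S] (h : Cfsg.Spor.IsoRu S) (H : Subgroup S) : H.index ≠ 203 := by
  intro hi
  obtain ⟨e⟩ := h
  have e' := e.trans Cfsg.Agent.RuLat.Main.equiv
  have := Cfsg.Agent.H690.Spor.Ru.instFiniteH
  obtain ⟨R, hR⟩ := Cfsg.Agent.H690.Spor.Ru.r3
  obtain ⟨χ₁, χ₂, h1, h2, hv⟩ := ru_degs hR
  have h3 := index_map e' H
  rw [hi] at h3
  have h4 := dvd_index χ₁ χ₂ hv (H.map e'.toMonoidHom) (by rw [h3]; norm_num) (by rw [h3]; omega) (by rw [h3]; omega)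
  rw [h3, Cfsg.Agent.SporadicB.RuOrder.card_H, Nat.card_eq_fintype_card, Fintype.card_fin] at h4
  norm_num at h4

/-! ### `Co2` -/

/-- **`Co2` has no subgroup of index `253`.** -/
theorem no_index_co2 {S : Type u} [Group S] [Finite S] (h : Cfsg.Spor.IsoCo2 S) (H : Subgroup S) : H.index ≠ 253 := by
  classical
  intro hi
  obtain ⟨e⟩ := h
  have := Fintype.ofFinite Spor.Co2
  obtain ⟨M, -, hM, q₁, q₂, h1, h2⟩ := Cfsg.Agent.SporadicStructure.Co2RankThree.rank_three (MulEquiv.refl Spor.Co2)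
  obtain ⟨R, hR⟩ := Cfsg.Agent.H690.Spor.RankThree.R3.of_index M (k := 891) (l := 1408) (by rw [hM]) h1 h2 (by norm_num)
    (by norm_num) (by norm_num)
  have := Fintype.ofFinite (Spor.Co2 ⧸ M)
  obtain ⟨χ₁, χ₂, h3, h4, hv⟩ := Cfsg.Agent.H843.IMC.Co2A.of_R3 Cfsg.Agent.H843.IMC.Co2A.card_co2 hR
  have h5 := index_map e H
  rw [hi] at h5
  have h6 := dvd_index χ₁ χ₂ hv (H.map e.toMonoidHom) (by rw [h5]; norm_num) (by rw [h5, h3]; norm_num)
    (by rw [h5, h4]; norm_num)
  have h7 : Nat.card (Spor.Co2 ⧸ M) = 2300 := hM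
  rw [h5, h7, Cfsg.Agent.H843.IMC.Co2A.card_co2] at h6
  norm_num at h6

end Cfsg.Agent.H294.Ix
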